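import Groth.Agent.CurveLib.Euler
import Groth.Agent.CurveLib.TensorDeg
import Groth.Agent.HilbObsLib.Ideal
import Groth.Agent.VolLib.HiGrowth
import Groth.Agent.NakaiLib.Nef

/-!
# Uniform vanishing for finitely generated graded families of coherent modules

A family `F p` with commuting maps `y v p : F p ⟶ F (p + 1)` such that every closed family of coherent
submodules is generated in bounded degrees behaves like a coherent graded module over a polynomial ring:
by induction on the number of maps, an eventual vanishing theorem holds uniformly in the degree.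
-/

set_option autoImplicit false
set_option backward.isDefEq.respectTransparency false
set_option linter.style.haveILetI false

universe u

open CategoryTheory CategoryTheory.Limits AlgebraicGeometry TopologicalSpace
open Groth.Agent.PullbackMod Groth.Agent.DCohLib

noncomputable section

namespace Groth.Agent.ReesVan

variable {X : Scheme.{u}}

/-- Closed families of coherent submodules are generated in bounded degrees. -/
def GN {r : ℕ} (F : ℕ → X.Modules) (y : Fin r → ∀ p, F p ⟶ F (p + 1)) : Prop :=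
  ∀ (S : ℕ → X.Modules) (ι : ∀ p, S p ⟶ F p), (∀ p, Mono (ι p)) → (∀ p, Coh.IsCoh (S p)) →
    ∀ z : Fin r → ∀ p, S p ⟶ S (p + 1), (∀ v p, z v p ≫ ι (p + 1) = ι p ≫ y v p) →
      ∃ b, ∀ p, b ≤ p → ∀ {Z : X.Modules} (g : S (p + 1) ⟶ Z), (∀ v, z v p ≫ g = 0) → g = 0

theorem subsingleton_right {S : ShortComplex X.Modules} (hS : S.ShortExact) (q : ℕ)
    [Subsingleton (Coh.HH X S.X₂ q)] [Subsingleton (Coh.HH X S.X₁ (q + 1))] :
    Subsingleton (Coh.HH X S.X₃ q) := by
  have hS' := QCohLib.toAb_shortExact hS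
  refine subsingleton_of_forall_eq 0 fun x => ?_
  obtain ⟨w, hw⟩ := Abelian.Ext.covariant_sequence_exact₃ _ hS' x (rfl : q + 1 = q + 1)
    (Subsingleton.elim (α := Coh.HH X S.X₁ (q + 1)) _ _)
  rw [← hw, Subsingleton.elim (α := Coh.HH X S.X₂ q) w 0, Abelian.Ext.zero_comp]

variable [AlgebraicGeometry.IsNoetherian X] {r : ℕ} {F : ℕ → X.Modules} {y : Fin (r + 1) → ∀ p, F p ⟶ F (p + 1)}

/-- The cokernels of the last map, with the induced maps. -/
abbrev cokerFam (y : Fin (r + 1) → ∀ p, F p ⟶ F (p + 1)) (p : ℕ) : X.Modules := cokernel (y (Fin.last r) p)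

/-- The kernels of the last map. -/
abbrev kerFam (y : Fin (r + 1) → ∀ p, F p ⟶ F (p + 1)) (p : ℕ) : X.Modules := kernel (y (Fin.last r) p)

variable (hc : ∀ u v p, y u p ≫ y v (p + 1) = y v p ≫ y u (p + 1))

/-- The maps on the cokernels. -/
def cokerMaps (v : Fin r) (p : ℕ) : cokerFam y p ⟶ cokerFam y (p + 1) :=
  cokernel.map _ _ (y v.castSucc p) (y v.castSucc (p + 1)) (hc _ _ p)

/-- The maps on the kernels. -/
def kerMaps (v : Fin r) (p : ℕ) : kerFam y p ⟶ kerFam y (p + 1) :=
  kernel.map _ _ (y v.castSucc p) (y v.castSucc (p + 1)) (hc _ _ p)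

omit [AlgebraicGeometry.IsNoetherian X] in
theorem cokerMaps_comm (u v : Fin r) (p : ℕ) :
    cokerMaps hc u p ≫ cokerMaps hc v (p + 1) = cokerMaps hc v p ≫ cokerMaps hc u (p + 1) := by
  apply coequalizer.hom_ext
  simp only [cokerMaps, cokernel.π_desc_assoc, Category.assoc, cokernel.π_desc]
  rw [← Category.assoc, ← Category.assoc, hc u.castSucc v.castSucc (p + 1)]

omit [AlgebraicGeometry.IsNoetherian X] in
theorem kerMaps_comm (u v : Fin r) (p : ℕ) :
    kerMaps hc u p ≫ kerMaps hc v (p + 1) = kerMaps hc v p ≫ kerMaps hc u (p + 1) := by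
  apply equalizer.hom_ext
  simp only [kerMaps, Category.assoc, kernel.lift_ι, kernel.lift_ι_assoc]
  rw [hc u.castSucc v.castSucc p]

omit [AlgebraicGeometry.IsNoetherian X] in
theorem GN.kernel (h : GN F y) : GN (kerFam y) (kerMaps hc) := by
  intro S ι hι hS z hz
  haveI := hι
  let z' : Fin (r + 1) → ∀ p, S p ⟶ S (p + 1) := fun v p => Fin.lastCases 0 (fun v => z v p) v
  obtain ⟨b, hb⟩ := h S (fun p => ι p ≫ kernel.ι _) (fun p => mono_comp _ _) hS z' (fun v p => by
    induction v using Fin.lastCases with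
    | last => simp [z']
    | cast v =>
      simp only [z', Fin.lastCases_castSucc]
      rw [← Category.assoc, hz, Category.assoc, kerMaps, kernel.lift_ι, ← Category.assoc])
  exact ⟨b, fun p hp Z g hg => hb p hp g fun v => by
    induction v using Fin.lastCases with
    | last => simp [z']
    | cast v => simpa [z'] using hg v⟩

theorem GN.cokernel (hF : ∀ p, Coh.IsCoh (F p)) (h : GN F y) : GN (cokerFam y) (cokerMaps hc) := by
  intro S ι hι hS z hz
  haveI := hι
  let π : ∀ p, F (p + 1) ⟶ cokerFam y p := fun p => cokernel.π _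
  have hQ : ∀ p, Coh.IsCoh (cokerFam y p) := fun p => (QCohLib.isCoh_kernel_cokernel _ (hF p) (hF (p + 1))).2
  let c : ∀ p, F (p + 1) ⟶ Limits.cokernel (ι p) := fun p => π p ≫ cokernel.π (ι p)
  let P : ∀ p, X.Modules := fun p => Limits.kernel (c p)
  have hP : ∀ p, Coh.IsCoh (P p) := fun p => (QCohLib.isCoh_kernel_cokernel _ (hF (p + 1))
    (QCohLib.isCoh_kernel_cokernel (ι p) (hS p) (hQ p)).2).1
  let l : ∀ p, P p ⟶ S p := fun p => Abelian.monoLift (ι p) (kernel.ι (c p) ≫ π p)
    (by rw [Category.assoc]; exact kernel.condition _)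
  have hl : ∀ p, l p ≫ ι p = kernel.ι (c p) ≫ π p := fun p => Abelian.monoLift_comp _ _ _
  have hle : ∀ p, Epi (l p) := fun p => (epi_iff_stalk _).2 fun x s => by
    obtain ⟨w, hw⟩ := (epi_iff_stalk (π p)).1 (inferInstanceAs (Epi (cokernel.π _))) x (stalkLin (ι p) x s)
    have hw0 : stalkLin (c p) x w = 0 := by
      rw [show c p = π p ≫ cokernel.π (ι p) from rfl, stalkLin_comp, LinearMap.comp_apply]
      exact (DevLib.coker_exact (ι p) x _).2 ⟨s, hw.symm⟩
    obtain ⟨n, hn⟩ := HilbObsLib.stalk_kernel_ι_exists (c p) x hw0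
    refine ⟨n, (mono_iff_stalk (ι p)).1 (hι p) x ?_⟩
    rw [← LinearMap.comp_apply, ← stalkLin_comp, hl, stalkLin_comp, LinearMap.comp_apply, hn]
    exact hw
  have hπy : ∀ (v : Fin r) p, y v.castSucc (p + 1) ≫ π (p + 1) = π p ≫ cokerMaps hc v p := fun v p =>
    (cokernel.π_desc _ _ _).symm
  have hlift : ∀ (v : Fin (r + 1)) p, (kernel.ι (c p) ≫ y v (p + 1)) ≫ c (p + 1) = 0 := fun v p => by
    induction v using Fin.lastCases with
    | last =>
      show (_ ≫ _) ≫ π (p + 1) ≫ _ = 0
      rw [Category.assoc, cokernel.condition_assoc, zero_comp, comp_zero]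
    | cast v =>
      show (_ ≫ _) ≫ π (p + 1) ≫ _ = 0
      rw [Category.assoc, reassoc_of% (hπy v p), ← Category.assoc (kernel.ι (c p)), ← hl p, Category.assoc,
        ← reassoc_of% (hz v p), cokernel.condition, comp_zero, comp_zero]
  let m : Fin (r + 1) → ∀ p, P p ⟶ P (p + 1) := fun v p => kernel.lift _ _ (hlift v p)
  let S' : ℕ → X.Modules := fun p => match p with
    | 0 => Limits.kernel (𝟙 (F 0))
    | p + 1 => P p
  let ι' : ∀ p, S' p ⟶ F p := fun p => match p with
    | 0 => kernel.ι (𝟙 (F 0))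
    | p + 1 => kernel.ι (c p)
  let z' : Fin (r + 1) → ∀ p, S' p ⟶ S' (p + 1) := fun v p => match p with
    | 0 => 0
    | p + 1 => m v p
  obtain ⟨b, hb⟩ := h S' ι' (fun p => by
      match p with
      | 0 => exact inferInstanceAs (Mono (kernel.ι (𝟙 (F 0))))
      | p + 1 => exact inferInstanceAs (Mono (kernel.ι (c p))))
    (fun p => by
      match p with
      | 0 => exact (QCohLib.isCoh_kernel_cokernel _ (hF 0) (hF 0)).1
      | p + 1 => exact hP p) z' (fun v p => by
      match p with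
      | 0 =>
        show (0 : S' 0 ⟶ S' 1) ≫ _ = kernel.ι (𝟙 (F 0)) ≫ y v 0
        rw [zero_comp, show kernel.ι (𝟙 (F 0)) = 0 by simpa using kernel.condition (𝟙 (F 0)), zero_comp]
      | p + 1 => exact kernel.lift_ι _ _ _)
  refine ⟨b, fun p hp Z g hg => ?_⟩
  haveI := hle (p + 1)
  rw [← cancel_epi (l (p + 1)), comp_zero]
  refine hb (p + 1) (by omega) (l (p + 1) ≫ g) fun v => ?_
  show m v p ≫ l (p + 1) ≫ g = 0
  have hm : m v p ≫ l (p + 1) ≫ ι (p + 1) = kernel.ι (c p) ≫ y v (p + 1) ≫ π (p + 1) := by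
    rw [hl, ← Category.assoc, kernel.lift_ι, Category.assoc]
  induction v using Fin.lastCases with
  | last =>
    have : m (Fin.last r) p ≫ l (p + 1) = 0 := by
      rw [← cancel_mono (ι (p + 1)), Category.assoc, hm, zero_comp,
        show y (Fin.last r) (p + 1) ≫ π (p + 1) = 0 from cokernel.condition _, comp_zero]
    rw [reassoc_of% this, zero_comp]
  | cast v =>
    have : m v.castSucc p ≫ l (p + 1) = l p ≫ z v p := by
      rw [← cancel_mono (ι (p + 1)), Category.assoc, hm, Category.assoc, hz, reassoc_of% (hl p), hπy]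
    rw [reassoc_of% this, hg, comp_zero]

omit hc in
theorem GN.zero_of_empty {F : ℕ → X.Modules} {y : Fin 0 → ∀ p, F p ⟶ F (p + 1)} (hF : ∀ p, Coh.IsCoh (F p))
    (h : GN F y) : ∃ b, ∀ p, b < p → IsZero (F p) := by
  obtain ⟨b, hb⟩ := h F (fun _ => 𝟙 _) (fun _ => inferInstance) hF (fun v => v.elim0) (fun v => v.elim0)
  refine ⟨b, fun p hp => ?_⟩
  obtain ⟨p, rfl⟩ := Nat.exists_eq_add_one_of_ne_zero (show p ≠ 0 by omega)
  exact (IsZero.iff_id_eq_zero _).2 (hb p (by omega) (𝟙 _) fun v => v.elim0)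

/-- Vanishing after a large twist, uniformly in the degree. -/
theorem GN.vanish {H : X.Modules} (hH : PicF.IsInvertible H)
    (hvan : ∀ M : X.Modules, Coh.IsCoh M → ∀ q, 0 < q → ∃ e : ℕ, ∀ j, e ≤ j →
      Subsingleton (Coh.HH X (CohB1.tensorMod M (CohB1.tensorPow H j)) q)) :
    ∀ (r : ℕ) (F : ℕ → X.Modules) (y : Fin r → ∀ p, F p ⟶ F (p + 1)), (∀ p, Coh.IsCoh (F p)) →
      (∀ u v p, y u p ≫ y v (p + 1) = y v p ≫ y u (p + 1)) → GN F y →
      ∀ q, 0 < q → ∃ e : ℕ, ∀ j, e ≤ j → ∀ p, Subsingleton (Coh.HH X (CohB1.tensorMod (F p) (CohB1.tensorPow H j)) q) := by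
  intro r
  induction r with
  | zero =>
    intro F y hF _ h q hq
    obtain ⟨b, hb⟩ := h.zero_of_empty hF
    choose e he using fun p => hvan (F p) (hF p) q hq
    refine ⟨(Finset.range (b + 1)).sup e, fun j hj p => ?_⟩
    by_cases hp : p ≤ b
    · exact he p j ((Finset.le_sup (Finset.mem_range.2 (by omega))).trans hj)
    · exact HiGrowth.subsingleton_HH_of_isZero ((CurveLib.tensR _).map_isZero (hb p (by omega))) q
  | succ r ih =>
    intro F y hF hc h q hq
    obtain ⟨e₁, he₁⟩ := ih _ _ (fun p => (QCohLib.isCoh_kernel_cokernel _ (hF p) (hF (p + 1))).2)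
      (cokerMaps_comm hc) (h.cokernel hc hF) q hq
    obtain ⟨e₂, he₂⟩ := ih _ _ (fun p => (QCohLib.isCoh_kernel_cokernel _ (hF p) (hF (p + 1))).1)
      (kerMaps_comm hc) (h.kernel hc) (q + 1) (by omega)
    obtain ⟨e₀, he₀⟩ := hvan (F 0) (hF 0) q hq
    refine ⟨max e₀ (max e₁ e₂), fun j hj p => ?_⟩
    induction p with
    | zero => exact he₀ j (by omega)
    | succ p hp =>
      let f := y (Fin.last r) p
      have hT := CurveLib.freeAt_one_of_isInvertible (AmpleLib.isInvertible_tensorPow hH j)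
      have hs1 := CurveLib.shortExact_tensR (DevLib.cokerSeq_shortExact (kernel.ι f)) hT
      have hs2 := CurveLib.shortExact_tensR (DevLib.cokerSeq_shortExact (Abelian.factorThruCoimage f)) hT
      let e : Limits.cokernel (Abelian.factorThruCoimage f) ≅ Limits.cokernel f :=
        (cokernelEpiComp (cokernel.π (kernel.ι f)) _).symm ≪≫ cokernelIsoOfEq (Abelian.coimage.fac f)
      have hI := @subsingleton_right _ _ hs1 q hp (he₂ j (by omega) p)
      have hC := Nakai.subsingleton_HH_iso ((CurveLib.tensR _).mapIso e).symm q (he₁ j (by omega) p)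
      exact @CurveLib.subsingleton_mid _ _ hs2 q hI hC

end Groth.Agent.ReesVan
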