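import Groth.Agent.ReesVan.Abstract
import Groth.Agent.LocFreeHomLib.Coherence
import Groth.Agent.AmpleLib.Tensor
import Groth.Agent.AmpleEmb.Generated
import Groth.Agent.InfNbhdLib.Scheme
import Groth.Agent.IntLib.Divisor
import Groth.Agent.RelTildeLib.Morph
import Mathlib.RingTheory.ReesAlgebra

/-!
# The family of powers of an ideal twisted by powers of an invertible module

If sections of an invertible module `L` generate the ideal `I` locally, then the family
`L^p ⊗ I^p`, with multiplication by these sections, is generated in bounded degrees.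
-/

set_option autoImplicit false
set_option backward.isDefEq.respectTransparency false
set_option linter.style.haveILetI false
set_option linter.unusedSectionVars false

universe u

open CategoryTheory CategoryTheory.Limits AlgebraicGeometry TopologicalSpace
open Groth.Agent.PullbackMod Groth.Agent.DCohLib Groth.Agent.ParaFLib Groth.Agent.AmpleLib
open scoped TensorProduct

noncomputable section

namespace Groth.Agent.ReesVan

variable {X : Scheme.{u}}

/-- The inverse of the unit on sections. -/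
theorem unitR_inv_app (A : X.Modules) {W : X.Opens} (t : Γ(A, W)) :
    (AmpleLib.unitR A).inv.app W t =
      pairS A (Coh.structureModule X) t (show Γ(Coh.structureModule X, W) from (1 : Γ(X, W))) := by
  have h : (AmpleLib.unitR A).hom.app W (pairS A (Coh.structureModule X) t
      (show Γ(Coh.structureModule X, W) from (1 : Γ(X, W)))) = t :=
    (LocFreeHomLib.runitMap_pairS A t 1).trans (one_smul _ _)
  conv_lhs => rw [← h]
  exact congr(($((AmpleLib.unitR A).hom_inv_id)).app W (pairS A (Coh.structureModule X) t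
      (show Γ(Coh.structureModule X, W) from (1 : Γ(X, W)))))

/-- Multiplication by a section. -/
def mulBy (A : X.Modules) {L : X.Modules} (s : Coh.structureModule X ⟶ L) : A ⟶ CohB1.tensorMod A L :=
  (AmpleLib.unitR A).inv ≫ ((DCoh.tensorBi (X := X)).obj A).map s

theorem mulBy_app (A : X.Modules) {L : X.Modules} (s : Coh.structureModule X ⟶ L) {W : X.Opens} (t : Γ(A, W)) :
    (mulBy A s).app W t = pairS A L t (resT (sec s) W) := by
  show (((DCoh.tensorBi (X := X)).obj A).map s).app W ((AmpleLib.unitR A).inv.app W t) = _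
  rw [unitR_inv_app]
  refine (tensorBi_app_pairS_right s t _).trans (congrArg _ ?_)
  refine Eq.trans ?_ (congr($(s.mapPresheaf.naturality (homOfLE (le_top : W ≤ ⊤)).op) (1 : Γ(X, ⊤))))
  exact congrArg (fun q => s.app W q) (map_one (X.presheaf.map (homOfLE (le_top : W ≤ ⊤)).op).hom).symm

/-- The generator of a power. -/
def powE {L : X.Modules} {W : X.Opens} (e : Γ(L, W)) : ∀ p, Γ(CohB1.tensorPow L p, W)
  | 0 => show Γ(Coh.structureModule X, W) from (1 : Γ(X, W))
  | p + 1 => pairS _ L (powE e p) e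

theorem gen_powE {L : X.Modules} {W : X.Opens} {e : Γ(L, W)} (he : Gen W e) : ∀ p, Gen W (powE e p)
  | 0 => gen_of_germ fun x hx => by
    have : (fun r : X.presheaf.stalk x => r • (Coh.structureModule X).presheaf.germ W x hx (powE e 0)) =
        fun r => r • oneG x := funext fun r => by
      refine congrArg (r • ·) ?_
      show (Coh.structureModule X).presheaf.germ W x hx _ = (Coh.structureModule X).presheaf.germ ⊤ x trivial _
      rw [← TopCat.Presheaf.germ_res_apply (Coh.structureModule X).presheaf (homOfLE (le_top : W ≤ ⊤)) x hx]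
      exact congrArg _ (map_one (X.presheaf.map (homOfLE (le_top : W ≤ ⊤)).op).hom).symm
    exact Eq.mpr (congrArg Function.Bijective this) (bijective_oneG x)
  | p + 1 => gen_pairS (gen_powE he p) he

variable [AlgebraicGeometry.IsNoetherian X] (I : X.IdealSheafData) {L : X.Modules} (hL : PicF.IsInvertible L)

/-- `L^p ⊗ I^p`. -/
abbrev fam (L : X.Modules) (p : ℕ) : X.Modules := tmod (CohB1.tensorPow L p) (ClSub.idealMod (I ^ p))

/-- The inclusion in `L^p`. -/
def incl (L : X.Modules) (p : ℕ) : fam I L p ⟶ CohB1.tensorPow L p :=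
  ((DCoh.tensorBi (X := X)).obj (CohB1.tensorPow L p)).map (ClSub.idealModι (I ^ p)) ≫
    (AmpleLib.unitR (CohB1.tensorPow L p)).hom

theorem isCoh_idealMod' (J : X.IdealSheafData) : Coh.IsCoh (ClSub.idealMod J) :=
  (QCohLib.isCoh_kernel_cokernel (ClSub.toSubscheme J) (DevLib.isCoh_structureModule X) (IntLib.isCoh_quotMod J)).1

include hL in
theorem isCoh_fam (p : ℕ) : Coh.IsCoh (fam I L p) :=
  CurveLib.isCoh_tmod (CurveLib.isCoh_of_isInvertible (isInvertible_tensorPow hL p)) (isCoh_idealMod' _)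

include hL in
theorem mono_incl (p : ℕ) : Mono (incl I L p) := by
  haveI : Mono (((DCoh.tensorBi (X := X)).obj (CohB1.tensorPow L p)).map (ClSub.idealModι (I ^ p))) := by
    refine (mono_iff_stalk _).2 fun x a b hab => ?_
    obtain ⟨a, rfl⟩ := (stalkTensor x _ _).surjective a
    obtain ⟨b, rfl⟩ := (stalkTensor x _ _).surjective b
    rw [stalkTensor_natural_right, stalkTensor_natural_right] at hab
    obtain ⟨e⟩ := CurveLib.freeAt_one_of_isInvertible (isInvertible_tensorPow hL p) x
    haveI : Module.Flat (X.presheaf.stalk x) ((CohB1.tensorPow L p).presheaf.stalk x) :=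
      Module.Flat.of_linearEquiv e
    exact congrArg _ (Module.Flat.lTensor_preserves_injective_linearMap (stalkLin (ClSub.idealModι (I ^ p)) x)
      ((mono_iff_stalk _).1 (inferInstanceAs (Mono (kernel.ι _))) x) ((stalkTensor x _ _).injective hab))
  exact mono_comp _ _

/-- The image of the inclusion on stalks. -/
theorem mem_range_incl (p : ℕ) {x : X} {E : (CohB1.tensorPow L p).presheaf.stalk x}
    (hE : Function.Bijective fun r : X.presheaf.stalk x => r • E) (m : (CohB1.tensorPow L p).presheaf.stalk x) :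
    (∃ z, stalkLin (incl I L p) x z = m) ↔ ∃ c ∈ IntMult.stalkIdeal (I ^ p) x, c • E = m := by
  have key : ∀ a (w : (ClSub.idealMod (I ^ p)).presheaf.stalk x) (r : X.presheaf.stalk x),
      stalkLin (ClSub.idealModι (I ^ p)) x w = r • oneG x →
      stalkLin (incl I L p) x (stalkTensor x _ _ (a ⊗ₜ w)) = r • a := fun a w r h => by
    rw [incl, stalkLin_comp, LinearMap.comp_apply, stalkTensor_natural_right, LinearMap.lTensor_tmul, h,
      TensorProduct.tmul_smul, map_smul, map_smul]
    exact congrArg (r • ·) (LocFreeHomLib.runitMap_stalk _ x a)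
  constructor
  · rintro ⟨z, rfl⟩
    obtain ⟨z, rfl⟩ := (stalkTensor x _ _).surjective z
    induction z using TensorProduct.induction_on with
    | zero => exact ⟨0, zero_mem _, by rw [map_zero, map_zero, zero_smul]⟩
    | add a b ha hb =>
      obtain ⟨c, hc, hca⟩ := ha
      obtain ⟨d, hd, hdb⟩ := hb
      exact ⟨c + d, add_mem hc hd, by rw [add_smul, map_add, map_add, hca, hdb]⟩
    | tmul a w =>
      obtain ⟨r, hr⟩ := (bijective_oneG x).2 (stalkLin (ClSub.idealModι (I ^ p)) x w)
      obtain ⟨b, rfl⟩ := hE.2 a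
      refine ⟨r * b, Ideal.mul_mem_right _ _ ((HilbObsLib.mem_range_idealModι _ x r).1 ⟨w, hr.symm⟩), ?_⟩
      rw [key _ w r hr.symm, smul_smul]
  · rintro ⟨c, hc, rfl⟩
    obtain ⟨w, hw⟩ := (HilbObsLib.mem_range_idealModι _ x c).2 hc
    exact ⟨_, key E w c hw⟩

theorem mem_ideal_of_germ (J : X.IdealSheafData) (W : X.affineOpens) {c : Γ(X, W.1)}
    (h : ∀ x (hx : x ∈ W.1), X.presheaf.germ W.1 x hx c ∈ IntMult.stalkIdeal J x) : c ∈ J.ideal W := by
  rw [← Scheme.IdealSheafData.ker_subschemeι_app, RingHom.mem_ker]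
  refine TopCat.Presheaf.section_ext J.subscheme.sheaf (J.subschemeι ⁻¹ᵁ W.1) _ _ fun w hw => ?_
  show J.subscheme.presheaf.germ (J.subschemeι ⁻¹ᵁ W.1) w hw (J.subschemeι.app W.1 c) =
    J.subscheme.presheaf.germ (J.subschemeι ⁻¹ᵁ W.1) w hw 0
  rw [map_zero, ← Scheme.Hom.germ_stalkMap_apply]
  exact RingHom.mem_ker.1 ((IdealStalkLib.ker_stalkMap_subschemeι J w).ge (h _ hw))

/-- A chart: an affine open on which the sections generate the ideal. -/
structure Chart {r : ℕ} (σ : Fin r → (Coh.structureModule X ⟶ L)) where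
  W : X.affineOpens
  e : Γ(L, W.1)
  he : Gen W.1 e
  g : Fin r → Γ(X, W.1)
  hg : ∀ v, g v • e = resT (sec (σ v)) W.1
  hI : I.ideal W = Ideal.span (Set.range g)

variable {r : ℕ} (σ : Fin r → (Coh.structureModule X ⟶ L))

variable {I} {σ} in
theorem Chart.mulBy_app (C : Chart I σ) (v : Fin r) (p : ℕ) (c : Γ(X, C.W.1)) :
    (mulBy (CohB1.tensorPow L p) (σ v)).app C.W.1 (c • powE C.e p) = (C.g v * c) • powE C.e (p + 1) := by
  rw [ReesVan.mulBy_app, ← C.hg, pairS_smul_left, pairS_smul_right, smul_smul, mul_comm]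
  rfl

variable {I} {σ} in
theorem Chart.stalk_mulBy (C : Chart I σ) (v : Fin r) (p : ℕ) {x : X} (hx : x ∈ C.W.1) (c : X.presheaf.stalk x) :
    stalkLin (mulBy (CohB1.tensorPow L p) (σ v)) x (c • (CohB1.tensorPow L p).presheaf.germ C.W.1 x hx (powE C.e p)) =
      (c * X.presheaf.germ C.W.1 x hx (C.g v)) •
        (CohB1.tensorPow L (p + 1)).presheaf.germ C.W.1 x hx (powE C.e (p + 1)) := by
  rw [map_smul, stalkLin_germ, mul_smul, ← germ_smul']
  refine congrArg (fun t => c • (CohB1.tensorPow L (p + 1)).presheaf.germ C.W.1 x hx t) ?_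
  have := C.mulBy_app v p 1
  rwa [one_smul, mul_one] at this

variable (hcov : ∀ x : X, ∃ C : Chart I σ, x ∈ C.W.1)

include hL hcov in
theorem incl_mulBy_cokernel (v : Fin r) (p : ℕ) :
    (incl I L p ≫ mulBy _ (σ v)) ≫ cokernel.π (incl I L (p + 1)) = 0 := by
  refine hom_ext_stalk fun x => LinearMap.ext fun z => ?_
  obtain ⟨C, hx⟩ := hcov x
  have hE := (gen_powE C.he p).bijective_germ x hx
  obtain ⟨c, hc, hcz⟩ := (mem_range_incl I p hE _).1 ⟨z, rfl⟩
  haveI := mono_incl I hL (p + 1)
  rw [stalkLin_comp, LinearMap.comp_apply, stalkLin_comp, LinearMap.comp_apply, ← hcz, C.stalk_mulBy v p hx,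
    DevLib.stalkLin_zero, LinearMap.zero_apply]
  refine (DevLib.coker_exact (incl I L (p + 1)) x _).2 ?_
  refine (mem_range_incl I (p + 1) ((gen_powE C.he (p + 1)).bijective_germ x hx) _).2 ⟨_, ?_, rfl⟩
  rw [InfNbhdLib.stalkIdeal_pow, pow_succ, ← InfNbhdLib.stalkIdeal_pow]
  refine Ideal.mul_mem_mul hc ?_
  rw [IdealStalkLib.stalkIdeal_eq I C.W x hx, C.hI]
  exact Ideal.mem_map_of_mem _ (Ideal.subset_span ⟨v, rfl⟩)

/-- Multiplication by the sections. -/
def famMap (v : Fin r) (p : ℕ) : fam I L p ⟶ fam I L (p + 1) :=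
  haveI := mono_incl I hL (p + 1)
  Abelian.monoLift (incl I L (p + 1)) (incl I L p ≫ mulBy _ (σ v)) (incl_mulBy_cokernel I hL σ hcov v p)

theorem famMap_incl (v : Fin r) (p : ℕ) :
    famMap I hL σ hcov v p ≫ incl I L (p + 1) = incl I L p ≫ mulBy _ (σ v) :=
  haveI := mono_incl I hL (p + 1)
  Abelian.monoLift_comp _ _ _

theorem famMap_comm (u v : Fin r) (p : ℕ) :
    famMap I hL σ hcov u p ≫ famMap I hL σ hcov v (p + 1) = famMap I hL σ hcov v p ≫ famMap I hL σ hcov u (p + 1) := by
  haveI := mono_incl I hL (p + 1 + 1)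
  rw [← cancel_mono (incl I L (p + 1 + 1))]
  simp only [Category.assoc, famMap_incl]
  rw [← Category.assoc, famMap_incl, ← Category.assoc (famMap I hL σ hcov v p), famMap_incl, Category.assoc,
    Category.assoc]
  refine congrArg (incl I L p ≫ ·) (hom_ext_stalk fun x => LinearMap.ext fun z => ?_)
  obtain ⟨C, hx⟩ := hcov x
  obtain ⟨c, rfl⟩ := ((gen_powE C.he p).bijective_germ x hx).2 z
  simp only [stalkLin_comp, LinearMap.comp_apply]
  erw [C.stalk_mulBy u p hx, C.stalk_mulBy v p hx, C.stalk_mulBy v (p + 1) hx, C.stalk_mulBy u (p + 1) hx,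
    mul_right_comm]

/-- Closed families of submodules of the powers of an ideal are generated in bounded degrees. -/
theorem exists_bound_ideals {A : Type u} [CommRing A] [IsNoetherianRing A] (J : Ideal A) (S : ℕ → Ideal A)
    (hle : ∀ p, S p ≤ J ^ p) (hmul : ∀ p, J * S p ≤ S (p + 1)) :
    ∃ b, ∀ p, b ≤ p → S (p + 1) ≤ J * S p := by
  classical
  have hpow : ∀ i p, J ^ i * S p ≤ S (p + i) := fun i => by
    induction i with
    | zero => intro p; rw [pow_zero, Ideal.one_eq_top, Ideal.top_mul]; exact le_rfl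
    | succ i ih =>
      intro p
      rw [pow_succ', mul_assoc]
      exact (Ideal.mul_mono le_rfl (ih p)).trans (hmul _)
  let mon : ∀ i (c : A), c ∈ S i → reesAlgebra J := fun i c hc =>
    ⟨Polynomial.monomial i c, reesAlgebra.monomial_mem.2 (hle i hc)⟩
  let G : ℕ →o Ideal (reesAlgebra J) :=
    ⟨fun b => Ideal.span {f | ∃ (i : ℕ) (c : A) (hc : c ∈ S i), i ≤ b ∧ f = mon i c hc}, fun a b hab =>
      Ideal.span_mono fun f ⟨i, c, hc, hi, hf⟩ => ⟨i, c, hc, hi.trans hab, hf⟩⟩
  obtain ⟨b, hb⟩ := monotone_stabilizes_iff_noetherian.2 (inferInstanceAs (IsNoetherian (reesAlgebra J) (reesAlgebra J))) G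
  refine ⟨b, fun p hp c hc => ?_⟩
  have hcoef : ∀ f ∈ G b, ∀ n, (f : Polynomial A).coeff n ∈ S n ∧
      ∀ m, n = m + 1 → b ≤ m → (f : Polynomial A).coeff n ∈ J * S m := by
    intro f hf
    induction hf using Submodule.span_induction with
    | mem f hf =>
      obtain ⟨i, d, hd, hi, rfl⟩ := hf
      intro n
      show (Polynomial.monomial i d).coeff n ∈ S n ∧ _
      by_cases h : i = n
      · subst h
        rw [Polynomial.coeff_monomial, if_pos rfl]
        exact ⟨hd, fun m hm hbm => by omega⟩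
      · rw [Polynomial.coeff_monomial, if_neg h]
        exact ⟨zero_mem _, fun m _ _ => by
          exact zero_mem _⟩
    | zero => intro n; simp
    | add f g _ _ hf hg =>
      intro n
      rw [show ((f + g : reesAlgebra J) : Polynomial A) = f + g from rfl, Polynomial.coeff_add]
      exact ⟨add_mem (hf n).1 (hg n).1, fun m hm hbm => add_mem ((hf n).2 m hm hbm) ((hg n).2 m hm hbm)⟩
    | smul a f _ hf =>
      intro n
      rw [show ((a • f : reesAlgebra J) : Polynomial A) = (a : Polynomial A) * f from rfl, Polynomial.coeff_mul]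
      refine ⟨sum_mem fun ij hij => ?_, fun m hm hbm => sum_mem fun ij hij => ?_⟩
      · replace hij := Finset.HasAntidiagonal.mem_antidiagonal.1 hij
        rw [← hij, add_comm ij.1]
        exact hpow _ _ (Ideal.mul_mem_mul (a.2 _) (hf _).1)
      · obtain ⟨i, j⟩ := ij
        replace hij := Finset.HasAntidiagonal.mem_antidiagonal.1 hij
        cases i with
        | zero => exact Ideal.mul_mem_left _ _ ((hf j).2 m (by simpa using hij.trans hm) hbm)
        | succ i =>
          have h1 : (a : Polynomial A).coeff (i + 1) * (f : Polynomial A).coeff j ∈ J * (J ^ i * S j) := by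
            rw [← mul_assoc, ← pow_succ']
            exact Ideal.mul_mem_mul (a.2 _) (hf j).1
          refine (Ideal.mul_mono le_rfl ((hpow i j).trans (le_of_eq ?_))) h1
          congr 1
          simp only at hij
          omega
  have hG : G b = G (max b (p + 1)) := hb _ (le_max_left _ _)
  have hin : mon (p + 1) c hc ∈ G b := hG ▸ Ideal.subset_span ⟨p + 1, c, hc, le_max_right _ _, rfl⟩
  have h := (hcoef _ hin (p + 1)).2 p rfl hp
  change (Polynomial.monomial (p + 1) c).coeff (p + 1) ∈ _ at h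
  rwa [Polynomial.coeff_monomial, if_pos rfl] at h

variable {I} {σ} in
include hL in
/-- Generation in bounded degrees on a chart. -/
theorem Chart.exists_bound (C : Chart I σ) (S : ℕ → X.Modules) (ι : ∀ p, S p ⟶ fam I L p)
    [∀ p, Mono (ι p)] (hS : ∀ p, Coh.IsCoh (S p)) (z : Fin r → ∀ p, S p ⟶ S (p + 1))
    (hz : ∀ v p, z v p ≫ ι (p + 1) = ι p ≫ famMap I hL σ hcov v p) :
    ∃ b, ∀ p, b ≤ p → ∀ {Z : X.Modules} (f : S (p + 1) ⟶ Z), (∀ v, z v p ≫ f = 0) →
      ∀ x (hx : x ∈ C.W.1), stalkLin f x = 0 := by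
  haveI hmono : ∀ p, Mono (incl I L p) := mono_incl I hL
  let J : ∀ p, S p ⟶ CohB1.tensorPow L p := fun p => ι p ≫ incl I L p
  haveI : ∀ p, Mono (J p) := fun p => mono_comp _ _
  have hzJ : ∀ v p, z v p ≫ J (p + 1) = J p ≫ mulBy _ (σ v) := fun v p => by
    show _ ≫ _ ≫ _ = (_ ≫ _) ≫ _
    rw [reassoc_of% (hz v p), famMap_incl, Category.assoc]
  let T : ℕ → Ideal Γ(X, C.W.1) := fun p =>
    { carrier := {c | ∃ t, (J p).app C.W.1 t = c • powE C.e p}
      add_mem' := fun ⟨t, ht⟩ ⟨t', ht'⟩ => ⟨t + t', by rw [map_add, ht, ht', add_smul]⟩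
      zero_mem' := ⟨0, by rw [map_zero, zero_smul]⟩
      smul_mem' := fun a c ⟨t, ht⟩ => ⟨a • t, by rw [Scheme.Modules.Hom.app_smul, ht, smul_eq_mul, mul_smul]⟩ }
  have hle : ∀ p, T p ≤ I.ideal C.W ^ p := fun p c ⟨t, ht⟩ => by
    show c ∈ (I ^ p).ideal C.W
    refine mem_ideal_of_germ _ C.W fun x hx => ?_
    have hE := (gen_powE C.he p).bijective_germ x hx
    obtain ⟨d, hd, hdc⟩ := (mem_range_incl I p hE _).1 ⟨stalkLin (ι p) x ((S p).presheaf.germ C.W.1 x hx t), rfl⟩
    rw [← LinearMap.comp_apply, ← stalkLin_comp, stalkLin_germ, show (ι p ≫ incl I L p).app C.W.1 t = _ from ht,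
      germ_smul'] at hdc
    rwa [← hE.1 hdc]
  have hmul : ∀ p, I.ideal C.W * T p ≤ T (p + 1) := fun p => by
    rw [C.hI, Ideal.mul_le]
    intro a ha c hc
    induction ha using Submodule.span_induction with
    | mem a ha =>
      obtain ⟨v, rfl⟩ := ha
      obtain ⟨t, ht⟩ := hc
      refine ⟨(z v p).app C.W.1 t, ?_⟩
      show (z v p ≫ J (p + 1)).app C.W.1 t = _
      rw [hzJ]
      show (mulBy _ (σ v)).app C.W.1 ((J p).app C.W.1 t) = _
      rw [ht, C.mulBy_app]
    | zero => rw [zero_mul]; exact zero_mem _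
    | add a b _ _ ha hb => rw [add_mul]; exact add_mem ha hb
    | smul q a _ ha => rw [smul_eq_mul, mul_assoc]; exact Ideal.mul_mem_left _ _ ha
  haveI : IsNoetherianRing Γ(X, C.W.1) := IsLocallyNoetherian.component_noetherian C.W
  obtain ⟨b, hb⟩ := exists_bound_ideals (I.ideal C.W) T hle hmul
  refine ⟨b, fun p hp Z f hf x hx => ?_⟩
  let K : Ideal Γ(X, C.W.1) :=
    { carrier := {c | ∃ t, (J (p + 1)).app C.W.1 t = c • powE C.e (p + 1) ∧ f.app C.W.1 t = 0}
      add_mem' := fun ⟨t, ht, h⟩ ⟨t', ht', h'⟩ =>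
        ⟨t + t', by rw [map_add, ht, ht', add_smul], by rw [map_add, h, h', add_zero]⟩
      zero_mem' := ⟨0, by rw [map_zero, zero_smul], map_zero _⟩
      smul_mem' := fun a c ⟨t, ht, h⟩ => ⟨a • t, by rw [Scheme.Modules.Hom.app_smul, ht, smul_eq_mul, mul_smul],
        by rw [Scheme.Modules.Hom.app_smul, h, smul_zero]⟩ }
  have hK : I.ideal C.W * T p ≤ K := by
    rw [C.hI, Ideal.mul_le]
    intro a ha c hc
    induction ha using Submodule.span_induction with
    | mem a ha =>
      obtain ⟨v, rfl⟩ := ha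
      obtain ⟨t, ht⟩ := hc
      refine ⟨(z v p).app C.W.1 t, ?_, ?_⟩
      · show (z v p ≫ J (p + 1)).app C.W.1 t = _
        rw [hzJ]
        show (mulBy _ (σ v)).app C.W.1 ((J p).app C.W.1 t) = _
        rw [ht, C.mulBy_app]
      · show (z v p ≫ f).app C.W.1 t = 0
        rw [hf]
        rfl
    | zero => rw [zero_mul]; exact zero_mem _
    | add a b _ _ ha hb => rw [add_mul]; exact add_mem ha hb
    | smul q a _ ha => rw [smul_eq_mul, mul_assoc]; exact Ideal.mul_mem_left _ _ ha
  have h0 : ∀ t, f.app C.W.1 t = 0 := fun t => by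
    obtain ⟨c, hc⟩ := ((gen_powE C.he (p + 1)) C.W.1 le_rfl).2 ((J (p + 1)).app C.W.1 t)
    simp only [ParaFLib.res_self] at hc
    obtain ⟨t', ht', hft⟩ := hK (hb p hp ⟨t, hc.symm⟩)
    rw [← RelTildeLib.app_injective_of_mono (J (p + 1)) C.W.1 (ht'.trans hc), hft]
  haveI := (hS (p + 1)).1
  have hspan := AmpleEmb.span_germ_eq_top (S (p + 1)) C.W.2 hx (Submodule.span_univ (R := Γ(X, C.W.1)))
  refine LinearMap.ext fun w => ?_
  have hw : w ∈ (⊤ : Submodule (X.presheaf.stalk x) _) := trivial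
  rw [← hspan] at hw
  induction hw using Submodule.span_induction with
  | mem w hw =>
    obtain ⟨t, -, rfl⟩ := hw
    rw [stalkLin_germ, h0, map_zero]
    rfl
  | zero => rw [map_zero, map_zero]
  | add a b _ _ ha hb => rw [map_add, ha, hb, LinearMap.zero_apply, LinearMap.zero_apply, LinearMap.zero_apply, add_zero]
  | smul q a _ ha => rw [map_smul, ha, LinearMap.zero_apply, LinearMap.zero_apply, smul_zero]

/-- The family is generated in bounded degrees. -/
theorem gn_fam : GN (fam I L) (famMap I hL σ hcov) := by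
  intro S ι hι hS z hz
  haveI := hι
  choose C hC using fun x => hcov x
  choose b hb using fun x => (C x).exists_bound hL hcov S ι hS z hz
  obtain ⟨s, hs⟩ := (isCompact_univ : IsCompact (Set.univ : Set X)).elim_finite_subcover
    (fun x => ((C x).W.1 : Set X)) (fun x => (C x).W.1.2) fun x _ => Set.mem_iUnion.2 ⟨x, hC x⟩
  refine ⟨s.sup b, fun p hp Z g hg => hom_ext_stalk fun x => ?_⟩
  obtain ⟨i, hi, hxi⟩ := Set.mem_iUnion₂.1 (hs (Set.mem_univ x))
  rw [hb i p ((Finset.le_sup hi).trans hp) g hg x hxi, DevLib.stalkLin_zero]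

end Groth.Agent.ReesVan
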