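import Groth.Agent.ReesVan.Fam
import Groth.Agent.S10945
import Mathlib.RingTheory.Localization.Ideal

/-!
# Finitely many sections generating an ideal twisted by an invertible module
-/

set_option autoImplicit false
set_option backward.isDefEq.respectTransparency false
set_option linter.style.haveILetI false
set_option linter.unusedSectionVars false

universe u

open CategoryTheory CategoryTheory.Limits AlgebraicGeometry TopologicalSpace
open Groth.Agent.PullbackMod Groth.Agent.DCohLib Groth.Agent.ParaFLib Groth.Agent.AmpleLib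
open scoped TensorProduct

noncomputable section

namespace Groth.Agent.ReesVan

variable {X : Scheme.{u}}

/-- A function whose germs lie in the extensions of an ideal lies in the ideal. -/
theorem mem_of_germ_mem_map (W : X.affineOpens) (K : Ideal Γ(X, W.1)) (c : Γ(X, W.1))
    (h : ∀ x (hx : x ∈ W.1), X.presheaf.germ W.1 x hx c ∈ K.map (X.presheaf.germ W.1 x hx).hom) : c ∈ K := by
  by_contra hc
  obtain ⟨m, hm, hKm⟩ := Ideal.exists_le_maximal (Submodule.colon K ({c} : Set Γ(X, W.1)))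
    (fun e => hc (by
      have h1 : (1 : Γ(X, W.1)) ∈ Submodule.colon K ({c} : Set Γ(X, W.1)) := e ▸ trivial
      simpa [Submodule.mem_colon] using h1))
  let p : PrimeSpectrum Γ(X, W.1) := ⟨m, hm.isPrime⟩
  have hx : W.2.fromSpec p ∈ W.1 := W.2.range_fromSpec.le ⟨p, rfl⟩
  have hp : W.2.primeIdealOf ⟨_, hx⟩ = p :=
    W.2.fromSpec.isOpenEmbedding.injective (W.2.fromSpec_primeIdealOf ⟨_, hx⟩)
  letI : Algebra Γ(X, W.1) (X.presheaf.stalk (W.2.fromSpec p)) := (X.presheaf.germ W.1 _ hx).hom.toAlgebra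
  haveI : IsLocalization.AtPrime (X.presheaf.stalk (W.2.fromSpec p)) (W.2.primeIdealOf ⟨_, hx⟩).asIdeal :=
    W.2.isLocalization_stalk ⟨_, hx⟩
  obtain ⟨⟨⟨a, ha⟩, s⟩, hs⟩ := (IsLocalization.mem_map_algebraMap_iff
    (W.2.primeIdealOf ⟨_, hx⟩).asIdeal.primeCompl (X.presheaf.stalk (W.2.fromSpec p))).1 (h _ hx)
  have hs' : algebraMap Γ(X, W.1) (X.presheaf.stalk (W.2.fromSpec p)) (c * s.1) = algebraMap _ _ a := by
    rw [map_mul]; exact hs
  obtain ⟨u, hu⟩ := (IsLocalization.eq_iff_exists (W.2.primeIdealOf ⟨_, hx⟩).asIdeal.primeCompl _).1 hs'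
  have hus : u.1 * s.1 ∈ Submodule.colon K ({c} : Set Γ(X, W.1)) := by
    simp only [Submodule.mem_colon, Set.mem_singleton_iff, forall_eq, smul_eq_mul]
    rw [show u.1 * s.1 * c = u.1 * (c * s.1) by ring, hu]
    exact Ideal.mul_mem_left _ _ ha
  have hn : u.1 * s.1 ∈ (W.2.primeIdealOf ⟨_, hx⟩).asIdeal.primeCompl := Submonoid.mul_mem _ u.2 s.2
  exact hn ((congrArg PrimeSpectrum.asIdeal hp).ge (hKm hus))

variable [AlgebraicGeometry.IsNoetherian X] (I : X.IdealSheafData) {L : X.Modules}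

/-- The inclusion of `I ⊗ L` in `L`. -/
def gincl (L : X.Modules) : tmod (ClSub.idealMod I) L ⟶ L :=
  (AmpleLib.comm _ _).hom ≫ ((DCoh.tensorBi (X := X)).obj L).map (ClSub.idealModι I) ≫ (AmpleLib.unitR L).hom

theorem mem_range_gincl {x : X} {E : L.presheaf.stalk x}
    (hE : Function.Bijective fun r : X.presheaf.stalk x => r • E) (m : L.presheaf.stalk x) :
    (∃ z, stalkLin (gincl I L) x z = m) ↔ ∃ c ∈ IntMult.stalkIdeal I x, c • E = m := by
  let φ := ((DCoh.tensorBi (X := X)).obj L).map (ClSub.idealModι I) ≫ (AmpleLib.unitR L).hom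
  have key : ∀ a (w : (ClSub.idealMod I).presheaf.stalk x) (r : X.presheaf.stalk x),
      stalkLin (ClSub.idealModι I) x w = r • oneG x →
      stalkLin φ x (stalkTensor x _ _ (a ⊗ₜ w)) = r • a := fun a w r h => by
    rw [stalkLin_comp, LinearMap.comp_apply, stalkTensor_natural_right, LinearMap.lTensor_tmul, h,
      TensorProduct.tmul_smul, map_smul, map_smul]
    exact congrArg (r • ·) (LocFreeHomLib.runitMap_stalk _ x a)
  have hsurj := ((isIso_iff_stalk (AmpleLib.comm (ClSub.idealMod I) L).hom).1 inferInstance x).2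
  have hφ : (∃ z, stalkLin (gincl I L) x z = m) ↔ ∃ z, stalkLin φ x z = m := by
    rw [show gincl I L = (AmpleLib.comm (ClSub.idealMod I) L).hom ≫ φ from rfl, stalkLin_comp]
    exact ⟨fun ⟨z, hz⟩ => ⟨_, hz⟩, fun ⟨z, hz⟩ => by
      obtain ⟨w, rfl⟩ := hsurj z
      exact ⟨w, hz⟩⟩
  rw [hφ]
  clear hφ
  constructor
  · rintro ⟨z, rfl⟩
    obtain ⟨z, rfl⟩ := (stalkTensor x _ _).surjective z
    induction z using TensorProduct.induction_on with
    | zero => exact ⟨0, zero_mem _, by rw [map_zero, map_zero, zero_smul]⟩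
    | add a b ha hb =>
      obtain ⟨c, hc, hca⟩ := ha
      obtain ⟨d, hd, hdb⟩ := hb
      exact ⟨c + d, add_mem hc hd, by rw [add_smul, map_add, map_add, hca, hdb]⟩
    | tmul a w =>
      obtain ⟨r, hr⟩ := (bijective_oneG x).2 (stalkLin (ClSub.idealModι I) x w)
      obtain ⟨b, rfl⟩ := hE.2 a
      refine ⟨r * b, Ideal.mul_mem_right _ _ ((HilbObsLib.mem_range_idealModι _ x r).1 ⟨w, hr.symm⟩), ?_⟩
      rw [key _ w r hr.symm, smul_smul]
  · rintro ⟨c, hc, rfl⟩
    obtain ⟨w, hw⟩ := (HilbObsLib.mem_range_idealModι _ x c).2 hc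
    exact ⟨_, key E w c hw⟩

/-- If `I ⊗ L` is generated by sections, finitely many sections of `L` cut out `I` locally. -/
theorem exists_charts (hL : PicF.IsInvertible L)
    (hgg : Curv2.IsGloballyGenerated (CohB1.tensorMod (ClSub.idealMod I) L)) :
    ∃ (r : ℕ) (σ : Fin r → (Coh.structureModule X ⟶ L)), ∀ x : X, ∃ C : Chart I σ, x ∈ C.W.1 := by
  classical
  obtain ⟨s, hs⟩ : ∃ s : Γ(tmod (ClSub.idealMod I) L, ⊤) → Γ(L, ⊤),
      ∀ t, s t = (gincl I L).app ⊤ t := ⟨_, fun _ => rfl⟩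
  have hW : ∀ x : X, ∃ (W : X.affineOpens) (e : Γ(L, W.1)), x ∈ W.1 ∧ Gen W.1 e := fun x => by
    obtain ⟨W₀, e, hx, he⟩ := exists_gen_nhd hL x
    obtain ⟨W, hW, hxW, hle⟩ := exists_isAffineOpen_mem_and_subset (U := W₀) hx
    exact ⟨⟨W, hW⟩, _, hxW, he.res hle⟩
  choose W e hxW he using hW
  choose g hg using fun (x : X) t => ((he x) (W x).1 le_rfl).2 (resT (s t) (W x).1)
  simp only [ParaFLib.res_self] at hg
  have hgerm : ∀ x t y (hy : y ∈ (W x).1), X.presheaf.germ (W x).1 y hy (g x t) • L.presheaf.germ (W x).1 y hy (e x) =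
      stalkLin (gincl I L) y ((tmod (ClSub.idealMod I) L).presheaf.germ ⊤ y trivial t) := fun x t y hy => by
    rw [stalkLin_germ, ← hs, ← germ_smul', hg]
    exact TopCat.Presheaf.germ_res_apply L.presheaf _ y hy (s t)
  have hspan : ∀ x, I.ideal (W x) = Ideal.span (Set.range (g x)) := fun x => by
    refine le_antisymm (fun c hc => mem_of_germ_mem_map (W x) _ c fun y hy => ?_)
      (Ideal.span_le.2 ?_)
    · have hE := (he x).bijective_germ y hy
      obtain ⟨z, hz⟩ := (mem_range_gincl I hE _).2 ⟨X.presheaf.germ (W x).1 y hy c, by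
        rw [IdealStalkLib.stalkIdeal_eq I (W x) y hy]; exact Ideal.mem_map_of_mem _ hc, rfl⟩
      have hmem : stalkLin (gincl I L) y z ∈ {m | ∃ d ∈ (Ideal.span (Set.range (g x))).map
          (X.presheaf.germ (W x).1 y hy).hom, d • L.presheaf.germ (W x).1 y hy (e x) = m} := by
        have hzm : z ∈ Submodule.span (X.presheaf.stalk y) (Set.range fun σ : Γ(tmod (ClSub.idealMod I) L, ⊤) =>
            (tmod (ClSub.idealMod I) L).presheaf.germ ⊤ y (Opens.mem_top y) σ) := by
          exact (S10945.span_of_isGloballyGenerated (L := tmod (ClSub.idealMod I) L) hgg y).ge trivial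
        clear hz
        induction hzm using Submodule.span_induction with
        | mem w hw =>
          obtain ⟨t, rfl⟩ := hw
          exact ⟨_, Ideal.mem_map_of_mem _ (Ideal.subset_span ⟨t, rfl⟩), hgerm x t y hy⟩
        | zero => exact ⟨0, zero_mem _, by rw [map_zero, zero_smul]⟩
        | add a b _ _ ha hb =>
          obtain ⟨d, hd, hda⟩ := ha
          obtain ⟨d', hd', hdb⟩ := hb
          exact ⟨d + d', add_mem hd hd', by rw [add_smul, hda, hdb, map_add]⟩
        | smul q a _ ha =>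
          obtain ⟨d, hd, hda⟩ := ha
          exact ⟨q * d, Ideal.mul_mem_left _ _ hd, by rw [mul_smul, hda, map_smul]⟩
      obtain ⟨d, hd, hdz⟩ := hmem
      rw [hz] at hdz
      rwa [← hE.1 hdz]
    · rintro _ ⟨t, rfl⟩
      refine mem_ideal_of_germ I (W x) fun y hy => ?_
      obtain ⟨d, hd, hdm⟩ := (mem_range_gincl I ((he x).bijective_germ y hy) _).1 ⟨_, (hgerm x t y hy).symm⟩
      rwa [← ((he x).bijective_germ y hy).1 hdm]
  obtain ⟨A, hA⟩ := (isCompact_univ : IsCompact (Set.univ : Set X)).elim_finite_subcover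
    (fun x => ((W x).1 : Set X)) (fun x => (W x).1.2) fun x _ => Set.mem_iUnion.2 ⟨x, hxW x⟩
  have hfin : ∀ x, ∃ T : Finset Γ(tmod (ClSub.idealMod I) L, ⊤), Ideal.span (Set.range (g x)) = Ideal.span (g x '' T) := fun x => by
    haveI : IsNoetherianRing Γ(X, (W x).1) := IsLocallyNoetherian.component_noetherian (W x)
    obtain ⟨T, hT, hTs⟩ := (Submodule.fg_span_iff_fg_span_finset_subset (R := Γ(X, (W x).1)) (Set.range (g x))).1
      (IsNoetherian.noetherian _)
    rw [Set.subset_range_iff_exists_image_eq] at hT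
    obtain ⟨T', hT'⟩ := hT
    have hex : ∀ a ∈ T, ∃ t, g x t = a := fun a ha => by
      have : a ∈ g x '' T' := hT'.symm ▸ ha
      obtain ⟨t, -, rfl⟩ := this
      exact ⟨t, rfl⟩
    choose f hf using hex
    refine ⟨T.attach.image fun a => f a.1 a.2, le_antisymm (hTs.le.trans (Ideal.span_mono fun a ha => ?_))
      (Ideal.span_mono (Set.image_subset_range _ _))⟩
    exact ⟨f a ha, by simpa using ⟨a, ha, rfl⟩, hf a ha⟩
  choose T hT using hfin
  let U := A.biUnion T
  refine ⟨U.card, fun v => secHom L (s (U.equivFin.symm v).1), fun y => ?_⟩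
  obtain ⟨x, hxA, hy⟩ := Set.mem_iUnion₂.1 (hA (Set.mem_univ y))
  refine ⟨⟨W x, e x, he x, fun v => g x (U.equivFin.symm v).1, fun v => ?_, ?_⟩, hy⟩
  · rw [sec_secHom]
    exact hg x _
  · rw [hspan x]
    refine le_antisymm ((hT x).le.trans (Ideal.span_mono ?_)) (Ideal.span_mono ?_)
    · rintro _ ⟨t, ht, rfl⟩
      exact ⟨U.equivFin ⟨t, Finset.mem_biUnion.2 ⟨x, hxA, ht⟩⟩, by simp⟩
    · rintro _ ⟨v, rfl⟩
      exact ⟨_, rfl⟩

/-- Uniform vanishing for the powers of an ideal generated by sections of a twist. -/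
theorem eventually_vanish (hL : PicF.IsInvertible L)
    (hgg : Curv2.IsGloballyGenerated (CohB1.tensorMod (ClSub.idealMod I) L))
    {H : X.Modules} (hH : PicF.IsInvertible H)
    (hvan : ∀ M : X.Modules, Coh.IsCoh M → ∀ q, 0 < q → ∃ e : ℕ, ∀ j, e ≤ j →
      Subsingleton (Coh.HH X (CohB1.tensorMod M (CohB1.tensorPow H j)) q)) (q : ℕ) (hq : 0 < q) :
    ∃ e : ℕ, ∀ j, e ≤ j → ∀ p,
      Subsingleton (Coh.HH X (CohB1.tensorMod (fam I L p) (CohB1.tensorPow H j)) q) := by
  obtain ⟨r, σ, hcov⟩ := exists_charts I hL hgg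
  exact GN.vanish hH hvan r (fam I L) (famMap I hL σ hcov) (isCoh_fam I hL) (famMap_comm I hL σ hcov)
    (gn_fam I hL σ hcov) q hq

end Groth.Agent.ReesVan
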